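import Mathlib.LinearAlgebra.ExteriorPower.Basic
import Mathlib.LinearAlgebra.CliffordAlgebra.Contraction
import Mathlib.LinearAlgebra.Basis.Basic
import Mathlib.RingTheory.Regular.RegularSequence
import Mathlib.Tactic.Abel
import Mathlib.Tactic.Ring

/-!
# The Koszul complex of a regular sequence in the exterior-algebra model
-/

set_option autoImplicit false
set_option linter.all false
universe u v

namespace GrothLib.KoszulExt

variable {R : Type u} [CommRing R] {M : Type v} [AddCommGroup M] [Module R M]

local notation "E" => ExteriorAlgebra R M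

theorem contract_mem (φ : Module.Dual R M) {p : ℕ} {x : E} (hx : x ∈ ExteriorAlgebra.exteriorPower R p M) :
    (p = 0 → CliffordAlgebra.contractLeft φ x = 0) ∧
      ∀ q, p = q + 1 → CliffordAlgebra.contractLeft φ x ∈ ExteriorAlgebra.exteriorPower R q M := by
  induction hx using Submodule.pow_induction_on_left' with
  | algebraMap r =>
    exact ⟨fun _ => CliffordAlgebra.contractLeft_algebraMap _ _ r, fun q h => by omega⟩
  | add x y i hx hy ihx ihy =>
    refine ⟨fun h => by rw [map_add, ihx.1 h, ihy.1 h, add_zero], fun q h => ?_⟩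
    rw [map_add]; exact add_mem (ihx.2 q h) (ihy.2 q h)
  | mem_mul m hm i x hx ih =>
    obtain ⟨v, rfl⟩ := hm
    refine ⟨fun h => by omega, fun q h => ?_⟩
    obtain rfl : i = q := by omega
    rw [CliffordAlgebra.contractLeft_ι_mul]
    refine sub_mem (Submodule.smul_mem _ _ hx) ?_
    cases i with
    | zero => rw [ih.1 rfl, mul_zero]; exact zero_mem _
    | succ j =>
      show _ ∈ LinearMap.range (ExteriorAlgebra.ι R) ^ (j + 1)
      rw [pow_succ']
      exact Submodule.mul_mem_mul ⟨v, rfl⟩ (ih.2 j rfl)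

theorem ι_mul_mem {p : ℕ} (v : M) {x : E} (hx : x ∈ ExteriorAlgebra.exteriorPower R p M) :
    ExteriorAlgebra.ι R v * x ∈ ExteriorAlgebra.exteriorPower R (p + 1) M := by
  show _ ∈ LinearMap.range (ExteriorAlgebra.ι R) ^ (p + 1)
  rw [pow_succ']
  exact Submodule.mul_mem_mul ⟨v, rfl⟩ hx

/-- Contraction on decomposable elements. -/
theorem contract_ιMulti (φ : Module.Dual R M) : ∀ (p : ℕ) (e : Fin (p + 1) → M),
    CliffordAlgebra.contractLeft φ (ExteriorAlgebra.ιMulti R (p + 1) e) =
      ∑ i : Fin (p + 1), ((-1 : R) ^ (i : ℕ) * φ (e i)) •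
        ExteriorAlgebra.ιMulti R p (fun j => e (i.succAbove j))
  | 0, e => by
    simp [ExteriorAlgebra.ιMulti_succ_apply, ExteriorAlgebra.ιMulti_zero_apply, Algebra.algebraMap_eq_smul_one,
      CliffordAlgebra.contractLeft_ι]
  | p + 1, e => by
    rw [ExteriorAlgebra.ιMulti_succ_apply, CliffordAlgebra.contractLeft_ι_mul, contract_ιMulti φ p,
      Fin.sum_univ_succ (n := p + 1), sub_eq_add_neg, Finset.mul_sum, ← Finset.sum_neg_distrib]
    refine congr_arg₂ (· + ·) ?_ (Finset.sum_congr rfl fun i _ => ?_)
    · simp [Matrix.vecTail, Function.comp_def]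
    rw [mul_smul_comm, ← neg_smul]
    refine congr_arg₂ (· • ·) ?_ ?_
    · simp [Matrix.vecTail, Function.comp_def, pow_succ]
    · rw [ExteriorAlgebra.ιMulti_succ_apply]
      simp [Matrix.vecTail, Function.comp_def, Fin.succ_succAbove_succ]

variable {n : ℕ} (b : Module.Basis (Fin n) R M)

/-- `x` involves only the first `k` basis vectors. -/
def Below (k : ℕ) (x : E) : Prop :=
  ∀ j : Fin n, k ≤ (j : ℕ) → CliffordAlgebra.contractLeft (b.coord j) x = 0

theorem sub_ι_mul (j : Fin n) (x : E) :
    x - ExteriorAlgebra.ι R (b j) * CliffordAlgebra.contractLeft (b.coord j) x =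
      ExteriorAlgebra.map (LinearMap.id - (b.coord j).smulRight (b j)) x := by
  induction x using CliffordAlgebra.left_induction with
  | algebraMap r => simp [CliffordAlgebra.contractLeft_algebraMap]
  | add x y hx hy =>
    rw [map_add, map_add, ← hx, ← hy, mul_add]
    abel
  | ι_mul x v hx =>
    rw [CliffordAlgebra.contractLeft_ι_mul]
    erw [map_mul, ExteriorAlgebra.map_apply_ι]
    erw [← hx]
    simp only [LinearMap.sub_apply, LinearMap.id_apply, LinearMap.smulRight_apply, map_sub, map_smul,
      mul_sub, sub_mul, smul_mul_assoc, mul_smul_comm, ← mul_assoc, ExteriorAlgebra.ι_sq_zero, zero_mul,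
      smul_zero, sub_zero]
    show ExteriorAlgebra.ι R v * x - _ = _
    erw [eq_neg_of_add_eq_zero_left (ExteriorAlgebra.ι_add_mul_swap (R := R) (b j) v)]
    rw [neg_mul]
    abel

theorem eq_zero_of_below_zero {q : ℕ} (hq : 1 ≤ q) {x : E} (hx : x ∈ ExteriorAlgebra.exteriorPower R q M)
    (h : Below b 0 x) : x = 0 := by
  have hfix : ∀ j, ExteriorAlgebra.map (LinearMap.id - (b.coord j).smulRight (b j)) x = x := fun j => by
    rw [← sub_ι_mul, h j (Nat.zero_le _), mul_zero, sub_zero]
  -- the composite of all the projections is zero on the module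
  have key : ∀ s : Finset (Fin n), ∃ π : M →ₗ[R] M, ExteriorAlgebra.map π x = x ∧
      (∀ i ∈ s, π (b i) = 0) ∧ ∀ i ∉ s, π (b i) = b i := by
    intro s
    induction s using Finset.induction with
    | empty => exact ⟨LinearMap.id, by simp, by simp, by simp⟩
    | insert j s hj ih =>
      obtain ⟨π, h1, h2, h3⟩ := ih
      refine ⟨(LinearMap.id - (b.coord j).smulRight (b j)).comp π, ?_, fun i hi => ?_, fun i hi => ?_⟩
      · rw [← ExteriorAlgebra.map_comp_map, AlgHom.comp_apply, h1, hfix]
      · rcases Finset.mem_insert.1 hi with rfl | hi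
        · simp [h3 _ hj]
        · simp [h2 i hi]
      · rw [Finset.mem_insert, not_or] at hi
        simp [h3 i hi.2, Finsupp.single_apply, hi.1]
  obtain ⟨π, hπ, h0, -⟩ := key Finset.univ
  have hπ0 : π = 0 := b.ext fun i => by rw [h0 i (Finset.mem_univ _)]; rfl
  rw [hπ0] at hπ
  rw [← hπ]
  have hzero : ∀ (i : ℕ) (y : E), y ∈ ExteriorAlgebra.exteriorPower R i M → 1 ≤ i →
      ExteriorAlgebra.map (0 : M →ₗ[R] M) y = 0 := by
    intro i y hy
    induction hy using Submodule.pow_induction_on_left' with
    | algebraMap r => intro h; omega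
    | add x y i hx hy ihx ihy => intro h; rw [map_add, ihx h, ihy h, add_zero]
    | mem_mul m hm i x hx ih =>
      obtain ⟨v, rfl⟩ := hm
      intro _
      rw [map_mul, ExteriorAlgebra.map_apply_ι, LinearMap.zero_apply, map_zero, zero_mul]
  exact hzero q x hx hq

/-- Exactness in positive degree of the Koszul complex of a weakly regular sequence. -/
theorem exists_contract_eq (φ : Module.Dual R M)
    (hreg : RingTheory.Sequence.IsWeaklyRegular R (List.ofFn fun i => φ (b i))) {q : ℕ} (hq : 1 ≤ q) {x : E}
    (hx : x ∈ ExteriorAlgebra.exteriorPower R q M) (hd : CliffordAlgebra.contractLeft φ x = 0) :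
    ∃ y ∈ ExteriorAlgebra.exteriorPower R (q + 1) M, CliffordAlgebra.contractLeft φ y = x := by
  -- non-zero-divisors modulo the previous terms
  let I : ℕ → Ideal R := fun k => Ideal.span {r | ∃ j : Fin n, (j : ℕ) < k ∧ φ (b j) = r}
  have hnzd : ∀ (k : Fin n) (c : R), φ (b k) * c ∈ I k → c ∈ I k := by
    intro k c hc
    have h := ((RingTheory.Sequence.isWeaklyRegular_iff_Fin _ _).1 hreg) ⟨k, by simp⟩
    simp only [Fin.getElem_fin, List.getElem_ofFn] at h
    have hI : (Ideal.ofList ((List.ofFn fun i => φ (b i)).take k) • ⊤ : Submodule R R) = I k := by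
      rw [smul_eq_mul, Ideal.mul_top, Ideal.ofList]
      congr 1
      ext r
      simp only [Set.mem_setOf_eq, List.mem_take_iff_getElem, List.getElem_ofFn, List.length_ofFn]
      constructor
      · rintro ⟨i, hi, rfl⟩; exact ⟨⟨i, by omega⟩, by simp; omega, rfl⟩
      · rintro ⟨j, hj, rfl⟩; exact ⟨j, by omega, rfl⟩
    rw [isSMulRegular_quotient_iff_mem_of_smul_mem, hI] at h
    exact h c hc
  suffices H : ∀ (k : ℕ), k ≤ n → ∀ (q : ℕ) (x : E), 1 ≤ q → x ∈ ExteriorAlgebra.exteriorPower R q M →
      Below b k x → CliffordAlgebra.contractLeft φ x = 0 →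
      ∃ y ∈ ExteriorAlgebra.exteriorPower R (q + 1) M, Below b k y ∧ CliffordAlgebra.contractLeft φ y = x by
    obtain ⟨y, hy, -, e⟩ := H n le_rfl q x hq hx (fun j hj => absurd j.2 (by omega)) hd
    exact ⟨y, hy, e⟩
  intro k
  induction k with
  | zero =>
    intro _ q x hq hx hb _
    refine ⟨0, zero_mem _, fun j _ => map_zero _, ?_⟩
    rw [map_zero, eq_zero_of_below_zero b hq hx hb]
  | succ k ih =>
    intro hk q x hq hx hb hd
    obtain ⟨q, rfl⟩ : ∃ p, q = p + 1 := ⟨q - 1, by omega⟩
    obtain ⟨k', hk'⟩ : ∃ k' : Fin n, (k' : ℕ) = k := ⟨⟨k, hk⟩, rfl⟩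
    let ε := b.coord k'
    obtain ⟨b', hb'⟩ : ∃ b', b' = CliffordAlgebra.contractLeft ε x := ⟨_, rfl⟩
    obtain ⟨e, he⟩ : ∃ e, e = ExteriorAlgebra.ι R (b k') := ⟨_, rfl⟩
    obtain ⟨a, ha⟩ : ∃ a, a = x - e * b' := ⟨_, rfl⟩
    have hb'mem : b' ∈ ExteriorAlgebra.exteriorPower R q M := hb' ▸ (contract_mem ε hx).2 q rfl
    have hamem : a ∈ ExteriorAlgebra.exteriorPower R (q + 1) M := ha ▸ sub_mem hx (he ▸ ι_mul_mem _ hb'mem)
    have hεε : CliffordAlgebra.contractLeft ε b' = 0 := by
      rw [hb']; exact CliffordAlgebra.contractLeft_contractLeft ε x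
    have hde : ∀ (ψ : Module.Dual R M) (z : E), CliffordAlgebra.contractLeft ψ (e * z) =
        ψ (b k') • z - e * CliffordAlgebra.contractLeft ψ z := fun ψ z => by
      rw [he]; exact CliffordAlgebra.contractLeft_ι_mul _ _ _
    have hb'below : Below b k b' := by
      intro j hj
      rw [hb']
      rcases eq_or_ne j k' with rfl | hne
      · exact CliffordAlgebra.contractLeft_contractLeft _ x
      · erw [CliffordAlgebra.contractLeft_comm, hb j (by have := Fin.val_ne_of_ne hne; omega), map_zero, neg_zero]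
    have habelow : Below b k a := by
      intro j hj
      rw [ha, map_sub, hde, hb'below j hj, mul_zero, sub_zero, hb']
      rcases eq_or_ne j k' with rfl | hne
      · simp [ε]
      · rw [hb j (by have := Fin.val_ne_of_ne hne; omega)]
        simp [Finsupp.single_apply, Ne.symm hne]
    have hdb' : CliffordAlgebra.contractLeft φ b' = 0 := by
      rw [hb']; erw [CliffordAlgebra.contractLeft_comm, hd, map_zero, neg_zero]
    have hda : CliffordAlgebra.contractLeft φ a = -(φ (b k') • b') := by
      rw [ha, map_sub, hd, hde, hdb', mul_zero, sub_zero, zero_sub]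
    -- a primitive of the coefficient of the last vector
    obtain ⟨c, hc, hcb, hdc⟩ : ∃ c ∈ ExteriorAlgebra.exteriorPower R (q + 1) M,
        Below b k c ∧ CliffordAlgebra.contractLeft φ c = b' := by
      rcases Nat.eq_zero_or_pos q with rfl | hq0
      · have hb'0 := hb'mem
        change b' ∈ LinearMap.range (ExteriorAlgebra.ι R : M →ₗ[R] E) ^ 0 at hb'0
        rw [pow_zero, Submodule.mem_one] at hb'0
        obtain ⟨c₀, hc₀⟩ := hb'0
        have ha1 := hamem
        change a ∈ LinearMap.range (ExteriorAlgebra.ι R : M →ₗ[R] E) ^ (0 + 1) at ha1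
        rw [zero_add, pow_one] at ha1
        obtain ⟨v, hv⟩ := ha1
        have hvj : ∀ j : Fin n, k ≤ (j : ℕ) → b.repr v j = 0 := fun j hj => by
          have := habelow j hj
          rw [← hv] at this
          erw [CliffordAlgebra.contractLeft_ι] at this
          exact (ExteriorAlgebra.algebraMap_leftInverse M).injective (this.trans (map_zero _).symm)
        have hmem : φ (b k') * c₀ ∈ I k' := by
          rw [← hv, ← hc₀] at hda
          erw [CliffordAlgebra.contractLeft_ι] at hda
          rw [Algebra.smul_def, ← map_mul, ← map_neg] at hda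
          have e1 : φ v = -(φ (b k') * c₀) := (ExteriorAlgebra.algebraMap_leftInverse M).injective hda
          rw [show φ (b k') * c₀ = -φ v by rw [e1, neg_neg]]
          refine neg_mem ?_
          rw [← b.sum_repr v, map_sum]
          refine Ideal.sum_mem _ fun j _ => ?_
          rw [map_smul, smul_eq_mul]
          by_cases hj : (j : ℕ) < k'
          · exact Ideal.mul_mem_left _ _ (Ideal.subset_span ⟨j, hj, rfl⟩)
          · rw [hvj j (by omega), zero_mul]; exact zero_mem _
        have hc₀I := hnzd k' c₀ hmem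
        have hex : ∀ r ∈ I k', ∃ w : M, (∀ j : Fin n, (k' : ℕ) ≤ j → b.repr w j = 0) ∧ φ w = r := by
          intro r hr
          induction hr using Submodule.span_induction with
          | mem r hr =>
            obtain ⟨j, hj, rfl⟩ := hr
            exact ⟨b j, fun i hi => by
              rw [b.repr_self, Finsupp.single_apply, if_neg]
              rintro rfl; omega, rfl⟩
          | zero => exact ⟨0, fun _ _ => by simp, map_zero _⟩
          | add r r' _ _ h h' =>
            obtain ⟨w, hw, rfl⟩ := h
            obtain ⟨w', hw', rfl⟩ := h'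
            exact ⟨w + w', fun i hi => by simp [hw i hi, hw' i hi], map_add _ _ _⟩
          | smul t r _ h =>
            obtain ⟨w, hw, rfl⟩ := h
            exact ⟨t • w, fun i hi => by simp [hw i hi], map_smul _ _ _⟩
        obtain ⟨w, hw, hφw⟩ := hex c₀ hc₀I
        refine ⟨ExteriorAlgebra.ι R w, ?_, fun j hj => ?_, ?_⟩
        · show _ ∈ LinearMap.range (ExteriorAlgebra.ι R : M →ₗ[R] E) ^ (0 + 1)
          rw [zero_add, pow_one]; exact ⟨w, rfl⟩
        · erw [CliffordAlgebra.contractLeft_ι]
          rw [Module.Basis.coord_apply, hw j (by omega), map_zero]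
        · erw [CliffordAlgebra.contractLeft_ι]
          rw [hφw]; exact hc₀
      · exact ih (by omega) q b' hq0 hb'mem hb'below hdb'
    obtain ⟨g, hg, hgb, hdg⟩ := ih (by omega) (q + 1) (a + φ (b k') • c) (by omega)
      (add_mem hamem (Submodule.smul_mem _ _ hc))
      (fun j hj => by rw [map_add, map_smul, habelow j hj, hcb j hj, smul_zero, add_zero])
      (by rw [map_add, map_smul, hda, hdc, neg_add_cancel])
    refine ⟨g - e * c, sub_mem hg (he ▸ ι_mul_mem _ hc), fun j hj => ?_, ?_⟩
    · rw [map_sub, hde, hcb j (by omega), hgb j (by omega), mul_zero, sub_zero, zero_sub, neg_eq_zero]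
      have hne : k' ≠ j := fun h => by subst h; omega
      simp [Finsupp.single_apply, hne]
    · rw [map_sub, hde, hdg, hdc, ha]
      abel

end GrothLib.KoszulExt
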